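import Mathlib
import Groth.Prelude.Def_Found
import Groth.Agent.N2Lib.Basic
import Groth.Agent.S6333

/-! # Finiteness of the normalization in a reduced scheme over a Nagata base -/

set_option autoImplicit false
set_option backward.isDefEq.respectTransparency false
universe u

open AlgebraicGeometry CategoryTheory TopologicalSpace

namespace Groth.Agent.NagNorm

set_option maxHeartbeats 1000000 in
/-- The integral closure of a Nagata ring in an essentially finite type field extension of a residue field. -/
theorem finite_integralClosure_field {R F : Type u} [CommRing R] (hR : CAlg.IsNagata R) [Field F] [Algebra R F]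
    [Algebra.EssFiniteType R F] : Module.Finite R (integralClosure R F) := by
  haveI := hR.1
  let q := RingHom.ker (algebraMap R F)
  haveI : q.IsPrime := RingHom.ker_isPrime _
  let R1 := R ⧸ q
  let φ : R1 →+* F := Ideal.Quotient.lift q (algebraMap R F) fun a ha => ha
  have hφ : Function.Injective φ := RingHom.lift_injective_of_ker_le_ideal q (fun a ha => ha) le_rfl
  letI : Algebra R1 F := φ.toAlgebra
  haveI : IsScalarTower R R1 F := IsScalarTower.of_algebraMap_eq fun _ => rfl
  let K := FractionRing R1
  letI : Algebra K F := (IsFractionRing.lift hφ).toAlgebra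
  haveI : IsScalarTower R1 K F := IsScalarTower.of_algebraMap_eq fun r => (IsFractionRing.lift_algebraMap hφ r).symm
  haveI : IsScalarTower R K F := IsScalarTower.of_algebraMap_eq fun r => by
    rw [IsScalarTower.algebraMap_apply R R1 F, IsScalarTower.algebraMap_apply R1 K F, ← IsScalarTower.algebraMap_apply R R1 K]
  haveI : Algebra.EssFiniteType K F := Algebra.EssFiniteType.of_comp R K F
  haveI : FiniteDimensional K (algebraicClosure K F) :=
    Groth.Agent.S6333.result (IntermediateField.fg_top_iff.mpr inferInstance)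
  let E := algebraicClosure K F
  haveI : IsScalarTower R1 E F := IsScalarTower.of_algebraMap_eq fun r => rfl
  letI : Algebra R E := ((algebraMap R1 E).comp (Ideal.Quotient.mk q)).toAlgebra
  haveI : IsScalarTower R R1 E := IsScalarTower.of_algebraMap_eq fun _ => rfl
  haveI : IsScalarTower R E F := IsScalarTower.of_algebraMap_eq fun _ => rfl
  haveI : Module.Finite R1 (integralClosure R1 E) := Groth.Agent.N2Lib.finite_of_isN2 (hR.2 q) K E
  haveI : Module.Finite R (integralClosure R1 E) := Module.Finite.trans R1 _
  haveI : IsNoetherian R (integralClosure R1 E) := isNoetherian_of_isNoetherianRing_of_finite _ _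
  have hE : ∀ z : integralClosure R F, (z : F) ∈ E := fun z => by
    rw [mem_algebraicClosure_iff]
    exact ((z.2 : IsIntegral R (z : F)).tower_top (A := K)).isAlgebraic
  have hint : ∀ z : integralClosure R F, IsIntegral R1 (⟨_, hE z⟩ : E) := fun z => by
    refine (isIntegral_algHom_iff (IsScalarTower.toAlgHom R1 E F) (algebraMap E F).injective).1 ?_
    exact (z.2 : IsIntegral R (z : F)).tower_top
  let j : integralClosure R F →ₗ[R] integralClosure R1 E :=
    { toFun := fun z => ⟨⟨_, hE z⟩, hint z⟩
      map_add' := fun a b => rfl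
      map_smul' := fun c a => Subtype.ext (Subtype.ext (by
        rw [RingHom.id_apply, Algebra.smul_def c a, Algebra.smul_def c]
        rfl)) }
  exact Module.Finite.of_injective j fun a b h => Subtype.ext
    (congrArg (fun w : integralClosure R1 E => ((w : E) : F)) h :)

/-- Inside a finite product of fields. -/
theorem finite_integralClosure_of_injective {R T : Type u} [CommRing R] (hR : CAlg.IsNagata R) [CommRing T]
    [Algebra R T] {ι : Type u} [Finite ι] (F : ι → Type u) [∀ i, Field (F i)] [∀ i, Algebra R (F i)]
    [∀ i, Algebra.EssFiniteType R (F i)] (g : ∀ i, T →ₐ[R] F i) (hg : ∀ t : T, (∀ i, g i t = 0) → t = 0) :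
    Module.Finite R (integralClosure R T) := by
  haveI := hR.1
  haveI : ∀ i, IsNoetherian R (integralClosure R (F i)) := fun i =>
    haveI := finite_integralClosure_field hR (F := F i)
    isNoetherian_of_isNoetherianRing_of_finite _ _
  let j : integralClosure R T →ₗ[R] ∀ i, integralClosure R (F i) :=
    LinearMap.pi fun i => ((g i).comp (integralClosure R T).val).toLinearMap.codRestrict
      (Subalgebra.toSubmodule (integralClosure R (F i))) fun z => (z.2 : IsIntegral R (z : T)).map (g i)
  exact Module.Finite.of_injective j ((injective_iff_map_eq_zero j).2 fun z hz =>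
    Subtype.ext (hg z fun i => congrArg Subtype.val (congrFun hz i)))

theorem locallyFinite_irreducibleComponents {X : Type u} [TopologicalSpace X]
    (hX : ∀ x : X, ∃ U ∈ nhds x, TopologicalSpace.NoetherianSpace U) :
    LocallyFinite (fun Z : irreducibleComponents X => (Z : Set X)) := by
  classical
  intro x
  obtain ⟨U, hU, hN⟩ := hX x
  obtain ⟨V, hVU, hV, hxV⟩ := mem_nhds_iff.1 hU
  haveI := hN
  haveI : TopologicalSpace.NoetherianSpace V := TopologicalSpace.NoetherianSpace.of_subset hVU
  refine ⟨V, hV.mem_nhds hxV, ?_⟩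
  have hf := hV.isOpenEmbedding_subtypeVal
  refine Set.Finite.of_finite_image (f := fun Z : irreducibleComponents X => ((↑) : V → X) ⁻¹' (Z : Set X))
    ((TopologicalSpace.NoetherianSpace.finite_irreducibleComponents (α := V)).subset ?_) ?_
  · rintro _ ⟨Z, hZ, rfl⟩
    exact preimage_mem_irreducibleComponents Z.2 hf (by rw [Subtype.range_coe]; exact hZ)
  · intro Z hZ Z' hZ' h
    have key : ∀ Z : irreducibleComponents X, ((Z : Set X) ∩ V).Nonempty →
        closure (((↑) : V → X) '' (((↑) : V → X) ⁻¹' (Z : Set X))) = (Z : Set X) := fun Z hZ =>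
      closure_image_preimage_of_isPreirreducible _ hf.isOpenMap _
        (by obtain ⟨a, ha, hav⟩ := hZ; exact ⟨⟨a, hav⟩, ha⟩) Z.2.1.2
        (isClosed_of_mem_irreducibleComponents _ Z.2)
    exact Subtype.ext ((key Z hZ).symm.trans ((congrArg (fun S => closure (((↑) : V → X) '' S)) h).trans (key Z' hZ')))

/-- A reduced section vanishing at the generic points of all components is zero. -/
theorem eq_zero_of_generic {X : Scheme.{u}} [IsReduced X] {U : X.Opens} (s : Γ(X, U))
    (h : ∀ x (hx : x ∈ U), closure {x} ∈ irreducibleComponents ↥X → X.evaluation U x hx s = 0) : s = 0 := by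
  rw [← AlgebraicGeometry.basicOpen_eq_bot_iff, eq_bot_iff]
  intro z hz
  have hcl : IsClosed (irreducibleComponent z) := isClosed_irreducibleComponent
  have hg := (isIrreducible_irreducibleComponent (x := z)).isGenericPoint_genericPoint hcl
  have hsp := hg.specializes (mem_irreducibleComponent (x := z))
  have hmem : (isIrreducible_irreducibleComponent (x := z)).genericPoint ∈ X.basicOpen s :=
    hsp.mem_open (X.basicOpen s).2 hz
  have := h _ (X.basicOpen_le s hmem) (hg.def.symm ▸ irreducibleComponent_mem_irreducibleComponents z)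
  exact ((Scheme.evaluation_ne_zero_iff_mem_basicOpen _ _ _ s).2 hmem this).elim

theorem finite_app {X S : Scheme.{u}} (f : X ⟶ S) [QuasiCompact f] [IsReduced X]
    (hfin : LocallyFinite (fun Z : ↥(irreducibleComponents ↥X) => (Z : Set ↥X)))
    (hres : ∀ x : X, closure {x} ∈ irreducibleComponents ↥X → (f.residueFieldMap x).hom.EssFiniteType)
    {W : S.Opens} (hW : IsAffineOpen W) (hR : CAlg.IsNagata Γ(S, W)) :
    letI := (f.app W).hom.toAlgebra
    Module.Finite Γ(S, W) (integralClosure Γ(S, W) Γ(X, f ⁻¹ᵁ W)) := by
  letI := (f.app W).hom.toAlgebra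
  let ι := {x : X // x ∈ f ⁻¹ᵁ W ∧ closure {x} ∈ irreducibleComponents ↥X}
  haveI : Finite ι := by
    let φ : ι → {Z : ↥(irreducibleComponents ↥X) | ((Z : Set ↥X) ∩ (f ⁻¹ᵁ W : Set X)).Nonempty} :=
      fun x => ⟨⟨closure {x.1}, x.2.2⟩, ⟨x.1, subset_closure rfl, x.2.1⟩⟩
    haveI := (hfin.finite_nonempty_inter_compact (f.isCompact_preimage hW.isCompact)).to_subtype
    refine Finite.of_injective φ fun a b h => Subtype.ext ?_
    have h' : closure {a.1} = closure ({b.1} : Set X) := congrArg (fun Z => ((Z.1 : ↥(irreducibleComponents ↥X)) : Set ↥X)) h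
    exact (isGenericPoint_closure (x := a.1)).eq (h' ▸ isGenericPoint_closure)
  let g : ∀ x : ι, Γ(X, f ⁻¹ᵁ W) →+* X.residueField x.1 := fun x => (X.evaluation (f ⁻¹ᵁ W) x.1 x.2.1).hom
  letI : ∀ x : ι, Algebra Γ(S, W) (X.residueField x.1) := fun x => ((g x).comp (f.app W).hom).toAlgebra
  haveI : ∀ x : ι, Algebra.EssFiniteType Γ(S, W) (X.residueField x.1) := fun x => by
    have hx : f x.1 ∈ W := x.2.1
    show ((g x).comp (f.app W).hom).EssFiniteType
    rw [show (g x).comp (f.app W).hom = (S.evaluation W (f x.1) hx ≫ f.residueFieldMap x.1).hom from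
      congrArg CommRingCat.Hom.hom (Scheme.evaluation_naturality f x.1 hx).symm]
    refine RingHom.EssFiniteType.comp ?_ (hres x.1 x.2.2)
    show (CommRingCat.Hom.hom (S.presheaf.germ W (f x.1) hx ≫ S.residue (f x.1))).EssFiniteType
    refine RingHom.EssFiniteType.comp ?_ (RingHom.FiniteType.essFiniteType
      (RingHom.FiniteType.of_surjective _ (S.residue_surjective (f x.1))))
    letI := (S.presheaf.germ W (f x.1) hx).hom.toAlgebra
    haveI : IsLocalization.AtPrime (S.presheaf.stalk (f x.1)) (hW.primeIdealOf ⟨f x.1, hx⟩).asIdeal :=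
      hW.isLocalization_stalk ⟨f x.1, hx⟩
    exact Algebra.EssFiniteType.of_isLocalization _ (hW.primeIdealOf ⟨f x.1, hx⟩).asIdeal.primeCompl
  refine finite_integralClosure_of_injective hR (fun x : ι => X.residueField x.1)
    (fun x => { toRingHom := g x, commutes' := fun _ => rfl }) fun t ht => eq_zero_of_generic t fun x hx hgen => ?_
  exact ht ⟨x, hx, hgen⟩

theorem isFinite_fromNormalization {X S : Scheme.{u}} (f : X ⟶ S) [QuasiCompact f] [QuasiSeparated f] [IsReduced X]
    (hS : ∀ U : S.affineOpens, CAlg.IsNagata Γ(S, U))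
    (hfin : LocallyFinite (fun Z : ↥(irreducibleComponents ↥X) => (Z : Set ↥X)))
    (hres : ∀ x : X, closure {x} ∈ irreducibleComponents ↥X → (f.residueFieldMap x).hom.EssFiniteType) :
    IsFinite f.fromNormalization := by
  refine ⟨fun W hW => ?_⟩
  letI := (f.app W).hom.toAlgebra
  rw [f.fromNormalization_app hW]
  exact RingHom.Finite.comp (RingHom.Finite.of_surjective _
    (f.normalizationObjIso hW).commRingCatIsoToRingEquiv.symm.surjective) (finite_app f hfin hres hW (hS ⟨W, hW⟩))

/-- Finite type case. -/
theorem isFinite_fromNormalization_finiteType {X S : Scheme.{u}} (f : X ⟶ S)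
    [LocallyOfFiniteType f] [QuasiCompact f] [QuasiSeparated f] [IsReduced X]
    (hS : ∀ U : S.affineOpens, CAlg.IsNagata Γ(S, U)) : IsFinite f.fromNormalization := by
  haveI : IsLocallyNoetherian S := ⟨fun U => (hS U).1⟩
  haveI : IsLocallyNoetherian X := LocallyOfFiniteType.isLocallyNoetherian f
  refine isFinite_fromNormalization f hS ?_ fun x _ =>
    RingHom.EssFiniteType.residueFieldMap (LocallyOfFiniteType.stalkMap f x)
  exact locallyFinite_irreducibleComponents fun x => by
    obtain ⟨_, ⟨U, hU, rfl⟩, hxU, -⟩ := X.isBasis_affineOpens.exists_subset_of_mem_open (Set.mem_univ x) isOpen_univ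
    haveI : IsNoetherianRing Γ(X, U) := IsLocallyNoetherian.component_noetherian ⟨U, hU⟩
    exact ⟨U, U.2.mem_nhds hxU, noetherianSpace_of_isAffineOpen U hU⟩

end Groth.Agent.NagNorm
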