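import Mathlib

/-! # A ring integrally closed in an extension, at a prime outside the image -/

set_option autoImplicit false
universe u

open Polynomial

namespace Groth.Agent.NagNorm

variable {R T : Type u} [CommRing R] [CommRing T] (φ : R →+* T) (hinj : Function.Injective φ)
  (hclosed : ∀ z : T, φ.IsIntegralElem z → z ∈ φ.range) (P : Ideal R) [P.IsPrime]
  (O : Type u) [CommRing O] [Algebra R O] [IsLocalization.AtPrime O P]
  (hkey : ∀ s : R, (∀ Q : Ideal R, Q.IsPrime → Q < P → s ∉ Q) → ∃ u ∉ P, ∃ t : T, t * φ s = φ u)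

theorem notMem_of_lt (hdim : ∀ Q' : Ideal O, Q'.IsPrime → Q' ∉ minimalPrimes O → Q'.comap (algebraMap R O) = P)
    {s : R} (hs : ∀ Q' ∈ minimalPrimes O, algebraMap R O s ∉ Q') (Q : Ideal R) (hQ : Q.IsPrime) (hQP : Q < P) : s ∉ Q := by
  have hd : Disjoint (P.primeCompl : Set R) Q := Set.disjoint_left.2 fun x hx hxQ => hx (hQP.le hxQ)
  have hp := IsLocalization.isPrime_of_isPrime_disjoint P.primeCompl O Q hQ hd
  have hc := IsLocalization.comap_map_of_isPrime_disjoint P.primeCompl O hQ hd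
  intro hsQ
  by_cases hm : Q.map (algebraMap R O) ∈ minimalPrimes O
  · exact hs _ hm (Ideal.mem_map_of_mem _ hsQ)
  · exact hQP.ne (hc.symm.trans (hdim _ hp hm))

include hinj hclosed hkey in
theorem eq_zero_or_eq_zero [IsReduced O] [IsNoetherianRing O]
    (hdim : ∀ Q' : Ideal O, Q'.IsPrime → Q' ∉ minimalPrimes O → Q'.comap (algebraMap R O) = P) :
    (minimalPrimes O).Subsingleton := by
  classical
  haveI : IsLocalRing O := IsLocalization.AtPrime.isLocalRing O P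
  intro Q₁ hQ₁ Q₂ hQ₂
  by_contra hne
  have hfin := minimalPrimes.finite_of_isNoetherianRing O
  haveI hQ₁p : Q₁.IsPrime := Ideal.minimalPrimes_isPrime hQ₁
  let s₁ := hfin.toFinset.erase Q₁
  have hs₁ : ∀ Q ∈ s₁, Q ∈ minimalPrimes O ∧ Q ≠ Q₁ := fun Q hQ =>
    ⟨hfin.mem_toFinset.1 (Finset.mem_of_mem_erase hQ), Finset.ne_of_mem_erase hQ⟩
  have hQ₂s : Q₂ ∈ s₁ := Finset.mem_erase.2 ⟨Ne.symm hne, hfin.mem_toFinset.2 hQ₂⟩
  have h1 : ¬ s₁.inf id ≤ Q₁ := fun h => by
    obtain ⟨Q, hQ, hQle⟩ := (Ideal.IsPrime.inf_le' hQ₁p).1 h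
    exact (hs₁ Q hQ).2 (le_antisymm hQle (hQ₁.2 ⟨Ideal.minimalPrimes_isPrime (hs₁ Q hQ).1, bot_le⟩ hQle))
  obtain ⟨a', ha', ha'Q⟩ := SetLike.not_le_iff_exists.1 h1
  have h2 : ¬ (Q₁ : Set O) ⊆ ⋃ Q ∈ (s₁ : Set (Ideal O)), (Q : Set O) := fun h => by
    obtain ⟨Q, hQ, hQle⟩ := (Ideal.subset_union_prime (R := O) (f := id) Q₁ Q₁
      (fun Q hQ _ _ => Ideal.minimalPrimes_isPrime (hs₁ Q hQ).1)).1 h
    exact (hs₁ Q hQ).2 (le_antisymm ((hs₁ Q hQ).1.2 ⟨hQ₁p, bot_le⟩ hQle) hQle)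
  obtain ⟨b', hb', hb'Q⟩ := Set.not_subset.1 h2
  obtain ⟨⟨a₀, ma⟩, hma⟩ := IsLocalization.surj P.primeCompl a'
  obtain ⟨⟨b₀, mb⟩, hmb⟩ := IsLocalization.surj P.primeCompl b'
  have hua := IsLocalization.map_units O ma
  have hub := IsLocalization.map_units O mb
  simp only at hma hmb
  have hab : algebraMap R O (a₀ * b₀) = 0 := by
    have : a' * b' = 0 := by
      have h0 : a' * b' ∈ sInf (⊥ : Ideal O).minimalPrimes := Submodule.mem_sInf.2 fun Q hQ => by
        by_cases hQ1 : Q = Q₁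
        · exact hQ1.symm ▸ Q₁.mul_mem_left _ hb'
        · exact Ideal.mul_mem_right _ _ ((Finset.inf_le (f := id)
            (Finset.mem_erase.2 ⟨hQ1, hfin.mem_toFinset.2 hQ⟩)) ha')
      rw [Ideal.sInf_minimalPrimes] at h0
      exact IsReduced.eq_zero _ h0
    rw [map_mul, ← hma, ← hmb, mul_mul_mul_comm, this, zero_mul]
  obtain ⟨⟨m, hm⟩, hm0⟩ := (IsLocalization.map_eq_zero_iff P.primeCompl O _).1 hab
  set a := m * a₀ with ha
  have hab0 : a * b₀ = 0 := by rw [ha, mul_assoc]; exact hm0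
  have hum : IsUnit (algebraMap R O m) := IsLocalization.map_units O ⟨m, hm⟩
  have haQ : ∀ Q ∈ minimalPrimes O, algebraMap R O a ∈ Q ↔ Q ≠ Q₁ := fun Q hQ => by
    rw [ha, map_mul, Ideal.unit_mul_mem_iff_mem _ hum, ← hma, Ideal.mul_unit_mem_iff_mem _ hua]
    exact ⟨fun h he => ha'Q (he ▸ h), fun h => (Finset.inf_le (f := id)
      (Finset.mem_erase.2 ⟨h, hfin.mem_toFinset.2 hQ⟩)) ha'⟩
  have hbQ : ∀ Q ∈ minimalPrimes O, algebraMap R O b₀ ∈ Q ↔ Q = Q₁ := fun Q hQ => by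
    rw [← hmb, Ideal.mul_unit_mem_iff_mem _ hub]
    refine ⟨fun h => by_contra fun he => hb'Q (Set.mem_iUnion₂.2 ⟨Q, Finset.mem_erase.2 ⟨he, hfin.mem_toFinset.2 hQ⟩, h⟩), fun h => h ▸ hb'⟩
  have hs : ∀ Q ∈ minimalPrimes O, algebraMap R O (a + b₀) ∉ Q := fun Q hQ h => by
    rw [map_add] at h
    by_cases he : Q = Q₁
    · exact (haQ Q hQ).1 ((Submodule.add_mem_iff_left _ ((hbQ Q hQ).2 he)).1 h) he
    · exact he ((hbQ Q hQ).1 ((Submodule.add_mem_iff_right _ ((haQ Q hQ).2 he)).1 h))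
  obtain ⟨u, hu, t, ht⟩ := hkey (a + b₀) (notMem_of_lt P O hdim hs)
  have he : (φ a * t) ^ 2 = φ u * (φ a * t) := by
    have : φ a * φ b₀ = 0 := by rw [← map_mul, hab0, map_zero]
    rw [← ht, map_add]
    linear_combination (-(t ^ 2)) * this
  obtain ⟨c, hc⟩ := hclosed (φ a * t) ⟨X ^ 2 - C u * X, monic_X_pow_sub (by
    refine (degree_C_mul_X_le u).trans_lt ?_
    decide), by rw [eval₂_sub, eval₂_X_pow, eval₂_mul, eval₂_C, eval₂_X, he, sub_self]⟩
  have hsc : (a + b₀) * c = a * u := hinj (by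
    rw [map_mul, map_mul, hc, ← ht]; ring)
  have hc0 : c * (c - u) = 0 := hinj (by
    rw [map_mul, map_sub, hc, map_zero]; linear_combination he)
  let Pm := IsLocalRing.maximalIdeal O
  have hle : ∀ Q ∈ minimalPrimes O, Q ≤ Pm := fun Q hQ =>
    IsLocalRing.le_maximalIdeal (Ideal.minimalPrimes_isPrime hQ).ne_top
  have hu' : algebraMap R O u ∉ Pm := fun h => (IsLocalRing.mem_maximalIdeal _).1 h (IsLocalization.map_units O (⟨u, hu⟩ : P.primeCompl))
  have hmap := congrArg (algebraMap R O) hsc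
  rw [map_mul, map_mul] at hmap
  have hc₁ : algebraMap R O (c - u) ∈ Q₁ := by
    have h : algebraMap R O (a + b₀) * algebraMap R O (c - u) ∈ Q₁ := by
      rw [map_sub, mul_sub, hmap, map_add, add_mul, sub_add_eq_sub_sub, sub_self, zero_sub, neg_mem_iff]
      exact Ideal.mul_mem_right _ _ ((hbQ _ hQ₁).2 rfl)
    exact (hQ₁p.mem_or_mem h).resolve_left (hs _ hQ₁)
  have hc₂ : algebraMap R O c ∈ Q₂ := by
    have h : algebraMap R O (a + b₀) * algebraMap R O c ∈ Q₂ := by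
      rw [hmap]; exact Ideal.mul_mem_right _ _ ((haQ _ hQ₂).2 (Ne.symm hne))
    exact ((Ideal.minimalPrimes_isPrime hQ₂).mem_or_mem h).resolve_left (hs _ hQ₂)
  rw [map_sub] at hc₁
  exact hu' (by simpa using sub_mem (hle _ hQ₂ hc₂) (hle _ hQ₁ hc₁))

include hinj hclosed hkey in
theorem isIntegrallyClosed [IsDomain O]
    (hdim : ∀ Q' : Ideal O, Q'.IsPrime → Q' ∉ minimalPrimes O → Q'.comap (algebraMap R O) = P) :
    IsIntegrallyClosed O := by
  rw [isIntegrallyClosed_iff (FractionRing O)]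
  intro x hx
  obtain ⟨⟨α, β⟩, hαβ⟩ := IsLocalization.surj (nonZeroDivisors O) x
  simp only at hαβ
  obtain ⟨m, hm⟩ := IsIntegral.exists_multiple_integral_of_isLocalization P.primeCompl x hx
  obtain ⟨⟨a₀, ma⟩, hma⟩ := IsLocalization.surj P.primeCompl α
  obtain ⟨⟨s₀, ms⟩, hms⟩ := IsLocalization.surj P.primeCompl (β : O)
  simp only at hma hms
  set a := (m : R) * a₀ * ms with ha
  set s := s₀ * ma with hs
  have hs0 : algebraMap R O s ≠ 0 := by
    rw [hs, map_mul, ← hms]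
    exact mul_ne_zero (mul_ne_zero (nonZeroDivisors.coe_ne_zero β) (IsLocalization.map_units O ms).ne_zero)
      (IsLocalization.map_units O ma).ne_zero
  let i := algebraMap R (FractionRing O)
  have hi : ∀ r : R, i r = algebraMap O (FractionRing O) (algebraMap R O r) := IsScalarTower.algebraMap_apply R O _
  have hy : (m • x) * i s = i a := by
    simp only [hi, hs, ha, map_mul, ← hma, ← hms, ← hαβ, Submonoid.smul_def, Algebra.smul_def]
    rw [IsScalarTower.algebraMap_apply R O (FractionRing O)]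
    ring
  obtain ⟨u, hu, t, ht⟩ := hkey s (notMem_of_lt P O hdim fun Q hQ => by
    rw [show Q = ⊥ from by
      rw [IsDomain.minimalPrimes_eq_singleton_bot] at hQ
      exact hQ]
    simpa using hs0)
  obtain ⟨p, hp, hp0⟩ := hm
  have hn : 0 < p.natDegree := by
    by_contra h
    rw [(Polynomial.Monic.natDegree_eq_zero hp).1 (by omega), eval₂_one] at hp0
    exact one_ne_zero hp0
  have hG : i ((p.scaleRoots s).eval a) = 0 := by
    rw [← eval₂_at_apply, ← hy, mul_comm, scaleRoots_eval₂_mul]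
    change i s ^ p.natDegree * eval₂ (algebraMap R (FractionRing O)) (m • x) p = 0
    rw [hp0, mul_zero]
  rw [hi, IsFractionRing.to_map_eq_zero_iff] at hG
  obtain ⟨⟨w, hw⟩, hw0⟩ := (IsLocalization.map_eq_zero_iff P.primeCompl O _).1 hG
  have hz : φ.IsIntegralElem (φ w * t * φ a) := by
    refine ⟨p.scaleRoots (w * u),
      (monic_scaleRoots_iff _).2 hp, ?_⟩
    haveI : Nontrivial R := ⟨⟨0, 1, fun h => Ideal.IsPrime.ne_top' (I := P) ((Ideal.eq_top_iff_one P).2 (h ▸ P.zero_mem))⟩⟩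
    haveI : Nontrivial T := hinj.nontrivial
    have hp' : p.leadingCoeff = 1 := hp
    have hlc : φ p.leadingCoeff ≠ 0 := by rw [hp', map_one]; exact one_ne_zero
    rw [← eval_map, map_scaleRoots _ _ _ hlc,
      show φ (w * u) = φ s * (φ w * t) by rw [map_mul, ← ht]; ring,
      scaleRoots_mul]
    have h := scaleRoots_eval₂_mul (p := (p.map φ).scaleRoots (φ s)) (RingHom.id T) (φ a) (φ w * t)
    simp only [eval₂_id, RingHom.id_apply] at h
    rw [h, natDegree_scaleRoots, hp.natDegree_map, ← map_scaleRoots _ _ _ hlc, eval_map, eval₂_at_apply,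
      ← Nat.succ_pred_eq_of_pos hn, pow_succ, mul_assoc, mul_right_comm (φ w) t, ← map_mul, hw0, map_zero,
      zero_mul, mul_zero]
  obtain ⟨c, hc⟩ := hclosed _ hz
  have hsc : s * c = w * u * a := hinj (by
    simp only [map_mul, hc, ← ht]; ring)
  obtain ⟨v, hv⟩ := IsLocalization.map_units O ⟨w * u * m, P.primeCompl.mul_mem (P.primeCompl.mul_mem hw hu) m.2⟩
  refine ⟨algebraMap R O c * (v⁻¹ : Oˣ), ?_⟩
  have hne : i s * algebraMap O (FractionRing O) v ≠ 0 := mul_ne_zero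
    (by rw [hi]; exact (map_ne_zero_iff _ (IsFractionRing.injective O _)).2 hs0)
    ((map_ne_zero_iff _ (IsFractionRing.injective O _)).2 v.ne_zero)
  refine mul_left_cancel₀ hne ?_
  have key : algebraMap O (FractionRing O) (v : O) * algebraMap O (FractionRing O) ((v⁻¹ : Oˣ) : O) = 1 := by
    rw [← map_mul, Units.mul_inv, map_one]
  rw [map_mul _ (algebraMap R O c), ← hi]
  calc i s * algebraMap O (FractionRing O) v * (i c * algebraMap O (FractionRing O) ((v⁻¹ : Oˣ) : O))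
      = i s * i c * (algebraMap O (FractionRing O) (v : O) * algebraMap O (FractionRing O) ((v⁻¹ : Oˣ) : O)) := by ring
    _ = i (w * u * a) := by rw [key, mul_one, ← map_mul, hsc]
    _ = _ := ?_
  rw [hv]
  simp only [map_mul, ← hi]
  rw [← hy, Submonoid.smul_def, Algebra.smul_def]
  ring

end Groth.Agent.NagNorm
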